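import Mathlib
import Cfsg.Agent.H68.LBGraph
import Cfsg.Agent.H29.OInd

set_option autoImplicit false

namespace Cfsg.Agent.H68

open Matrix H29 H28 QuadraticMap

section General

variable {A D : Type*} [Group A] [Group D] (π : D →* A)

/-- the elements whose image commutes with `x` -/
def cmm (x : A) : Subgroup D := (Subgroup.centralizer {x}).comap π

theorem mem_cmm {x : A} {c : D} : c ∈ cmm π x ↔ π c * x = x * π c :=
  Subgroup.mem_centralizer_singleton_iff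

theorem split_map {N H : Subgroup D} [N.Normal] (hNH : N ≤ H) (hk : π.ker ≤ N) (x : A) :
    splitClassCount (H.map π) (N.map π) x = (N ⊔ H ⊓ cmm π x).relIndex H := by
  have e : H.map π = (π.comp H.subtype).range := by rw [MonoidHom.range_comp, Subgroup.range_subtype]
  rw [e]
  refine splitClassCount_eq_index _ (e ▸ Subgroup.map_mono hNH) ?_ x _ fun g => ?_
  · rintro g _ ⟨n, hn, rfl⟩
    exact ⟨_, Subgroup.Normal.conj_mem inferInstance n hn g.1, by simp⟩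
  · rw [Subgroup.mem_subgroupOf, Subgroup.mem_sup_of_normal_left]
    constructor
    · rintro ⟨n, hn, c, ⟨h1, h2⟩, h⟩
      exact ⟨_, ⟨n, hn, rfl⟩, ⟨c, h1⟩, (mem_cmm π).mp h2, by simp [← h]⟩
    · rintro ⟨_, ⟨n, hn, rfl⟩, c, h1, h2⟩
      refine ⟨g.1 * (n * c.1)⁻¹ * n, N.mul_mem (hk ?_) hn, c.1, ⟨c.2, (mem_cmm π).mpr h1⟩, by group⟩
      rw [MonoidHom.mem_ker, map_mul, map_inv, mul_inv_eq_one, map_mul]; exact h2

theorem conjUnder_mono {H K : Subgroup A} (h : H ≤ K) {x y : A} (hx : IsConjUnder H x y) :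
    IsConjUnder K x y := hx.imp fun _ ⟨h1, h2⟩ => ⟨h h1, h2⟩

theorem conjUnder_map_iff {N H : Subgroup D} (hNH : N ≤ H) {x : A}
    (h : ∀ g ∈ H, ∃ n ∈ N, ∃ c ∈ cmm π x, g = n * c) (y : A) :
    IsConjUnder (N.map π) x y ↔ IsConjUnder (H.map π) x y := by
  refine ⟨conjUnder_mono (Subgroup.map_mono hNH), ?_⟩
  rintro ⟨_, ⟨g, hg, rfl⟩, rfl⟩
  obtain ⟨n, hn, c, hc, rfl⟩ := h g hg
  refine ⟨_, ⟨n, hn, rfl⟩, ?_⟩
  rw [map_mul, mul_assoc (π n), (mem_cmm π).mp hc]; group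

end General

variable {F : Type*} [Field F] {ι : Type} [Fintype ι] [DecidableEq ι]
  {Q : QuadraticForm F (ι → F)} [Finite F] (hQ : (polarBilin Q).Nondegenerate)
  (h5 : 5 ≤ Fintype.card ι)

local notation "𝐃" => dickson hQ (ok5 h5)
local notation "𝐒" => spinor hQ (ok5 h5)
local notation "𝛑" => MDict.πD (dSim hQ h5)
local notation "𝐣" => MDict.toΓ (dSim hQ h5)
local notation "𝛍" => qMult (q_ne hQ h5)

theorem spinor_conj {δ : Sim Q} (hδ : ¬ IsSquare (𝛍 δ : F)) (t : O Q) :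
    𝐒 (oAut Q (𝐣 δ) t) = 𝐃 t * 𝐒 t := by
  refine refl_induction hQ (ok5 h5) (P := fun t => 𝐒 (oAut Q (𝐣 δ) t) = 𝐃 t * 𝐒 t)
    (by simp only [map_one, mul_one]) (fun v g hv ih => ?_) t
  simp only [map_mul, ih, spinor_oAut_refl hQ h5 _ hv, mult_toΓ hQ h5, sqSign_eq_neg_one.2 hδ,
    spinor_refl hQ _ hv, dickson_refl hQ _ hv]
  exact mul_mul_mul_comm _ _ _ _

theorem oAut_of_comm {δ : Sim Q} {μ : Fˣ} {t : O Q}
    (h : δ ∈ cmm (𝛑) (𝛑 (scSim Q μ * oSim Q t))) :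
    oAut Q (𝐣 δ) t = t ∨ oAut Q (𝐣 δ) t = negO Q * t := by
  rw [mem_cmm, ← mul_inv_eq_iff_eq_mul, map_mul, π_scSim hQ h5, one_mul, ← map_inv, ← map_mul,
    ← map_mul, conj_oSim, MDict.πD_eq_iff] at h
  obtain ⟨ν, h⟩ := h
  exact scSim_oSim_eq (q_ne hQ h5) (μ := 1) (ν := ν) (by rw [map_one, one_mul]; exact Subtype.ext h)

theorem mem_cmm_of_oAut {g : Sim Q} {s : O Q} (h : oAut Q (𝐣 g) s = s) :
    oSim Q s ∈ cmm (𝛑) (𝛑 g) := by
  rw [mem_cmm, ← map_mul, ← map_mul, eq_comm, ← mul_inv_eq_iff_eq_mul.mp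
    ((conj_oSim g s).trans (congrArg _ h))]

include hQ h5 in
theorem exists_perp_ne {x : ι → F} (hx : Q x = 0) (h0 : x ≠ 0) :
    ∃ z, polar Q x z = 0 ∧ Q z ≠ 0 := by
  obtain ⟨f, h1, h2⟩ := exists_hyperbolic_partner hQ hx h0
  have h3 := finrank_le_perpTwo Q x f
  rw [Module.finrank_fintype_fun_eq_card] at h3
  obtain ⟨z, h4, h6⟩ := (nondegOn_perpTwo hQ hx h1 h2).exists_eq (by omega) 1
  exact ⟨z, (mem_perpTwo.mp h4).1, by simp [h6]⟩

include hQ h5 in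
theorem exists_orth_image (h2 : (2 : F) ≠ 0) {A : Matrix ι ι F}
    (h1 : ∀ (x : ι → F) (a : F), A *ᵥ x = a • x → x = 0)
    (h3 : ∀ u v, polar Q (A *ᵥ u) v = polar Q u (A *ᵥ v)) :
    ∃ w, polar Q w (A *ᵥ w) = 0 ∧ Q w ≠ 0 := by
  by_contra! H
  obtain ⟨x, h0, hx⟩ := exists_sing h5
    (LinearMap.BilinMap.toQuadraticMap ((polarBilin Q).compl₂ (toLin' A)))
  replace hx : polar Q x (A *ᵥ x) = 0 := hx
  obtain ⟨y₀, h4, h6⟩ := exists_polar_orth_one hQ (e := x) (x := A *ᵥ x) fun a e => h0 (h1 x a e)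
  have key : ∀ y, polar Q x y = 0 → polar Q (A *ᵥ x) y ≠ 0 → Q y = 0 := fun y h7 h8 => by
    have := H (y - (polar Q y (A *ᵥ y) / (2 * polar Q (A *ᵥ x) y)) • x) (by
      rw [mulVec_sub, mulVec_smul, polar_sub_left, polar_sub_right, polar_sub_right, B_smul_left,
        B_smul_left, B_smul_right, B_smul_right, hx, ← h3 x y, polar_comm Q y (A *ᵥ x)]
      field_simp; ring)
    rwa [Q_sub, Q_smul, H x hx, B_smul_right, polar_comm Q y x, h7, mul_zero, mul_zero, add_zero,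
      sub_zero] at this
  obtain ⟨z, h7, h8⟩ := exists_perp_ne hQ h5 (H x hx) h0
  by_cases h9 : polar Q (A *ᵥ x) z = 0
  · have e1 := key (y₀ + z) (by simp [h6, h7]) (by simp [h4, h9])
    have e2 := key (y₀ - z) (by simp [h6, h7]) (by simp [h4, h9])
    rw [Q_add, key y₀ h6 (by simp [h4])] at e1
    rw [Q_sub, key y₀ h6 (by simp [h4])] at e2
    exact h8 (mul_left_cancel₀ h2 (by linear_combination e1 + e2))
  · exact h8 (key z h7 h9)

theorem exists_refl_pair (h2 : (2 : F) ≠ 0) {W : Submodule F (ι → F)} (hW : NondegOn Q W)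
    (h : 2 ≤ Module.finrank F W) : ∃ u ∈ W, ∃ v ∈ W, Q u ≠ 0 ∧ Q v ≠ 0 ∧
      𝐃 (refl Q u * refl Q v) = 1 ∧ 𝐒 (refl Q u * refl Q v) = -1 := by
  obtain ⟨c, hc⟩ := exists_nonsquare_unit h2
  obtain ⟨u, hu, h1⟩ := hW.exists_eq h 1
  obtain ⟨v, hv, h3⟩ := hW.exists_eq h c
  have h4 : Q u ≠ 0 := by simp [h1]
  have h6 : Q v ≠ 0 := by simp [h3]
  refine ⟨u, hu, v, hv, h4, h6, by simp [dickson_refl hQ _ h4, dickson_refl hQ _ h6], ?_⟩
  rw [map_mul, spinor_refl hQ _ h4, spinor_refl hQ _ h6, h1, h3, sqSign_one, one_mul,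
    sqSign_eq_neg_one.2 hc]

variable (hn : Even (Fintype.card ι))

local notation "𝐂" => cls hQ h5 hn

theorem split_sim_elt (x : MulAut (POmega F Q)) :
    splitClassCount (dP hQ h5 hn).πD.range (Inn _) x =
      (zMul (Omega F Q) ⊔ (𝐂).ker ⊓ cmm (𝛑) x).relIndex (𝐂).ker := by
  have := zOm_normal (Q := Q)
  rw [dP_range, inn_eq hQ h5]
  exact split_map _ ((zMul_mono (omega_le_ker hQ h5)).trans (zSO_le_ker hQ h5 hn))
    (ker_le_zMul hQ h5 _) x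

theorem sq_of_comm_neg (hneg : negO Q ∈ Omega F Q) {δ g : Sim Q} (hδ : 𝐂 δ = 1) (hg : 𝐂 g ≠ 1)
    (h : δ ∈ cmm (𝛑) (𝛑 g)) : IsSquare (𝛍 δ : F) := by
  by_contra H
  have key : ∀ g : Sim Q, 𝐂 g ≠ 1 → δ ∈ cmm (𝛑) (𝛑 g) → ¬ IsSquare (𝛍 g : F) := by
    intro g hg h hs
    obtain ⟨μ, t, rfl⟩ := sim_decomp' (q_ne hQ h5) hs
    have h1 := spinor_conj hQ h5 H t
    rw [cls_sc_o] at hg
    rcases oAut_of_comm hQ h5 h with e | e <;> rw [e] at h1
    · exact hg (by simpa using h1)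
    · rw [map_mul, ((mem_omega_iff hQ (ok5 h5) _).mp hneg).2] at h1
      exact hg (mul_right_cancel h1).symm
  refine key (δ * g) (by rwa [map_mul, hδ, one_mul]) ?_ ?_
  · rw [mem_cmm] at h ⊢
    rw [map_mul, mul_assoc, h]
  · rw [map_mul, Units.val_mul]
    exact H27.isSquare_mul_of_not_isSquare H (key g hg h)

theorem sq_of_comm_even (h2 : (2 : F) ≠ 0) {k : ℕ} (hk : Fintype.card ι = 2 * k) (he : Even k)
    {δ g : Sim Q} (hg : 𝐂 g ≠ 1) (ho : 𝛑 g ^ 2 = 1) (h : δ ∈ cmm (𝛑) (𝛑 g)) :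
    IsSquare (𝛍 δ : F) := by
  by_contra H
  rcases graph_cases hQ h5 hn h2 hg ho with ⟨μ, t, rfl, h1, h3⟩ | ⟨c, h1, h3, h4, -⟩
  · have h4 := spinor_conj hQ h5 H t
    rw [cls_sc_o] at hg
    rcases oAut_of_comm hQ h5 h with e | e
    · rw [e] at h4; exact hg (by simpa using h4)
    obtain ⟨a, b, f₁, f₂, S⟩ := exists_split h2 h1
    have h6 : ∀ v, rho Q t (δ.1.1 *ᵥ v) = -δ.1.1 *ᵥ rho Q t v := fun v => by
      have := rho_oAut (𝐣 δ) t v
      rw [e, MDict.gvec_toΓ, MDict.gvec_toΓ, rho_mul, rho_apply (negO Q), mat_negO, neg_mulVec,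
        one_mulVec] at this
      rw [neg_mulVec, ← this, neg_neg]
    have h7 : ∀ {a b : ℕ} {f : (Fin a → F) →ₗ[F] (ι → F)} {f' : (Fin b → F) →ₗ[F] (ι → F)},
        Function.Injective f → Function.Injective f' → (∀ u, ∃ w, f' w = δ.1.1 *ᵥ f u) → a ≤ b := by
      intro a b f f' h8 h9 h10
      have := Submodule.finrank_mono (s := LinearMap.range (toLin' δ.1.1 ∘ₗ f))
        (t := LinearMap.range f') (by rintro _ ⟨u, rfl⟩; exact h10 u)
      rwa [LinearMap.finrank_range_of_inj h9, LinearMap.finrank_range_of_inj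
        ((mulVec_injective_iff_isUnit.mpr δ.1.isUnit).comp h8), Module.finrank_fin_fun,
        Module.finrank_fin_fun] at this
    have h8 := h7 S.inj₁ S.inj₂ fun u => (S.r₂ _).mp (by rw [h6, S.t₁, neg_mulVec])
    have h9 := h7 S.inj₂ S.inj₁ fun u => (S.r₁ _).mp (by rw [h6, S.t₂, neg_mulVec_neg])
    have h10 := S.card_add
    rw [S.det_t, Fintype.card_fin] at h3
    simp only [Fintype.card_fin] at h10
    rw [show b = k by omega, he.neg_one_pow] at h3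
    exact h2 (by linear_combination h3)
  · refine hg (cls_eq_of_det hQ h5 hn h2 ?_)
    rw [det_of_sq h1 (ext_iff_mulVec.mpr fun v => by
      rw [← mulVec_mulVec, h4, smul_mulVec, one_mulVec]) hk, h3, he.neg_pow,
      show Fintype.card ι / 2 = k by omega]
    simp

theorem exists_cent_spinor (h2 : (2 : F) ≠ 0) {g : Sim Q} (hg : 𝐂 g ≠ 1) (ho : 𝛑 g ^ 2 = 1) :
    ∃ s : O Q, 𝐃 s = 1 ∧ 𝐒 s = -1 ∧ oSim Q s ∈ cmm (𝛑) (𝛑 g) := by
  rcases graph_cases hQ h5 hn h2 hg ho with ⟨μ, t, rfl, h1, h3⟩ | ⟨c, h1, h3, h4, h6⟩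
  · obtain ⟨a, b, f₁, f₂, S⟩ := exists_split h2 h1
    have key : ∀ {a : ℕ} {f : (Fin a → F) →ₗ[F] (ι → F)}, Function.Injective f → 2 ≤ a →
        (polarBilin (Q.comp f)).Nondegenerate → (∀ u, refl Q (rho Q t (f u)) = refl Q (f u)) →
        ∃ s : O Q, 𝐃 s = 1 ∧ 𝐒 s = -1 ∧ oSim Q s ∈ cmm (𝛑) (𝛑 (scSim Q μ * oSim Q t)) := by
      intro a f h4 h6 h7 h8
      obtain ⟨_, ⟨u, rfl⟩, _, ⟨v, rfl⟩, -, -, h9, h10⟩ := exists_refl_pair hQ h5 h2
        (W := LinearMap.range f) (by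
          rintro _ ⟨u, rfl⟩ H
          rw [eq_zero_of_polar h7 (x := u) fun y => by simpa [polar] using H _ ⟨y, rfl⟩, map_zero])
        (by rwa [LinearMap.finrank_range_of_inj h4, Module.finrank_fin_fun])
      refine ⟨_, h9, h10, ?_⟩
      have e : ∀ u, Commute t (refl Q (f u)) := fun u =>
        mul_inv_eq_iff_eq_mul.mp ((refl_conj t _).trans (h8 u))
      rw [mem_cmm, map_mul (𝛑) (scSim Q μ), π_scSim hQ h5, one_mul, ← map_mul, ← map_mul, ← map_mul,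
        ← map_mul, ((e u).mul_right (e v)).eq]
    have h4 := S.card_add
    simp only [Fintype.card_fin] at h4
    by_cases h6 : 2 ≤ a
    · exact key S.inj₁ h6 (S.nd₁ hQ) fun u => by rw [S.t₁]
    · exact key S.inj₂ (by omega) (S.nd₂ hQ) fun u => by rw [S.t₂, refl_neg]
  · have hc : c ≠ 0 := fun e => h1 (e ▸ IsSquare.zero)
    obtain ⟨w, h7, h8⟩ := exists_orth_image hQ h5 h2 (fun x a e => by
      by_contra h0
      have := h4 x
      rw [e, mulVec_smul, e, smul_smul] at this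
      exact h1 ⟨a, (smul_left_injective F h0 this).symm⟩) h6
    have h9 : Q (g.1.1 *ᵥ w) = c * Q w := by rw [qMult_spec (q_ne hQ h5), h3]
    have h10 : Q (g.1.1 *ᵥ w) ≠ 0 := h9 ▸ mul_ne_zero hc h8
    refine ⟨refl Q w * refl Q (g.1.1 *ᵥ w), by simp [dickson_refl hQ _ h8, dickson_refl hQ _ h10],
      ?_, mem_cmm_of_oAut hQ h5 ?_⟩
    · rw [map_mul, spinor_refl hQ _ h8, spinor_refl hQ _ h10, h9, sqSign_mul hc h8,
        sqSign_eq_neg_one.2 h1, mul_left_comm, Int.units_mul_self, mul_one]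
    · rw [map_mul, oAut_refl, oAut_refl, MDict.gvec_toΓ, MDict.gvec_toΓ, h4, refl_smul hc, eq_comm,
        ← mul_inv_eq_iff_eq_mul, refl_conj, rho_refl_of_orth h7]

theorem split_graph (h2 : (2 : F) ≠ 0) {g : Sim Q} (hg : 𝐂 g ≠ 1) (ho : 𝛑 g ^ 2 = 1)
    (hδ : ∃ δ : GamO Q, δ.1.right = 1 ∧ ¬ IsSquare (mult δ : F)) :
    (splitClassCount (dP hQ h5 hn).πD.range (Inn _) (𝛑 g) = 1 ∨
      splitClassCount (dP hQ h5 hn).πD.range (Inn _) (𝛑 g) = 2) ∧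
    ((negO Q ∈ Omega F Q ∨ ∃ k, Fintype.card ι = 2 * k ∧ Even k) →
      splitClassCount (dP hQ h5 hn).πD.range (Inn _) (𝛑 g) = 2) := by
  rw [split_sim_elt]
  obtain ⟨δ, h3, h4⟩ := hδ
  obtain ⟨δ, h3, h4⟩ := exists_delta_cls hQ h5 hn δ h3 h4
  obtain ⟨s, h6, h7, h8⟩ := exists_cent_spinor hQ h5 hn h2 hg ho
  have h9 := zSO_le_of hQ h5 (L := zMul (Omega F Q) ⊔ (𝐂).ker ⊓ cmm (𝛑) (𝛑 g)) le_sup_left h6 h7
    (Subgroup.mem_sup_right ⟨(cls_oSim hQ h5 hn s).trans h6, h8⟩)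
  have h10 := relIndex_zSO hQ h5 hn h3 h4
  refine ⟨(Nat.dvd_prime Nat.prime_two).mp (h10 ▸ Subgroup.relIndex_dvd_of_le_left _ h9),
    fun H => ?_⟩
  rw [le_antisymm (sup_le (zMul_mono (omega_le_ker hQ h5)) ?_) h9, h10]
  rintro d ⟨h11, h12⟩
  exact (mem_zSO_iff hQ h5 hn d).mpr ⟨h11, H.elim (fun H => sq_of_comm_neg hQ h5 hn H h11 hg h12)
    fun ⟨k, hk, he⟩ => sq_of_comm_even hQ h5 hn h2 hk he hg ho h12⟩

end Cfsg.Agent.H68
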