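import Mathlib
import Cfsg.Agent.H68.GSplit
import Cfsg.Agent.H67.FormConj
import Cfsg.Agent.H67.FormPres
import Cfsg.Agent.H29.ClsTy
import Cfsg.Agent.H11.Wall

set_option autoImplicit false

namespace Cfsg.Agent.H68
open Matrix H29 H28 QuadraticMap Module

theorem exists_pow_idem {R : Type*} [Monoid R] [Finite R] (h : R) :
    ∃ N, h ^ (N + 1) * h ^ (N + 1) = h ^ (N + 1) := by
  obtain ⟨i, j, hne, e⟩ := Finite.exists_ne_map_eq_of_infinite fun n : ℕ => h ^ n
  wlog hij : i < j generalizing i j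
  · exact this j i hne.symm e.symm (by omega)
  obtain ⟨d, rfl⟩ := Nat.exists_eq_add_of_lt hij
  have key : ∀ k m, h ^ (i + m + (d + 1) * k) = h ^ (i + m) := fun k m => by
    induction k with
    | zero => simp
    | succ k ih =>
      rw [show i + m + (d + 1) * (k + 1) = i + d + 1 + (m + (d + 1) * k) by ring, pow_add, ← e,
        ← pow_add, ← add_assoc, ih]
  refine ⟨(d + 1) * i + d, ?_⟩
  rw [← pow_add]
  convert key (i + 1) (d * i + d + 1) using 2 <;> ring

theorem exists_trace_unit {R : Type*} [CommRing R] [Finite R] (σ : R →+* R) (hσ : ∀ x, σ (σ x) = x)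
    {s b : R} (hs : s * σ s = 1) (hu : IsUnit (s ^ 2 - σ s ^ 2)) (hb : IsUnit b) :
    ∃ w, IsUnit w ∧ IsUnit (b * w ^ 2 + σ (b * w ^ 2)) := by
  obtain ⟨N, hN⟩ := exists_pow_idem (b + σ b)
  have h1 : σ (b + σ b) = b + σ b := by rw [map_add, hσ, add_comm]
  obtain ⟨f, hf⟩ : ∃ f, f = (b + σ b) ^ (N + 1) := ⟨_, rfl⟩
  have h2 : σ f = f := by rw [hf, map_pow, h1]
  rw [← hf] at hN
  obtain ⟨u, hu⟩ := (hb.mul hu).exists_right_inv
  refine ⟨f + s * (1 - f), .of_mul_eq_one (f + σ s * (1 - f)) (by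
    linear_combination (1 - f) ^ 2 * hs + (2 - s - σ s) * hN), ?_⟩
  have h3 : IsUnit ((b + σ b) * f + b * (s ^ 2 - σ s ^ 2) * (1 - f)) :=
    .of_mul_eq_one ((b + σ b) ^ N * f + u * (1 - f)) (by
      rw [pow_succ'] at hf
      linear_combination (1 - f) ^ 2 * hu - f ^ 2 * hf + (f + 2 - (b + σ b) * u -
        b * (s ^ 2 - σ s ^ 2) * (b + σ b) ^ N) * hN)
  have h4 : IsNilpotent ((b + σ b) * (σ s ^ 2 * (1 - f))) := ⟨N + 1, by
    rw [mul_pow, ← hf, mul_pow, pow_succ (1 - f)]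
    linear_combination -(σ s ^ 2) ^ (N + 1) * (1 - f) ^ N * hN⟩
  convert h4.isUnit_add_right_of_commute h3 (Commute.all _ _) using 1
  simp only [map_mul, map_pow, map_add, map_sub, map_one, h2]
  linear_combination (b * (1 - s) ^ 2 + σ b * (1 - σ s) ^ 2) * hN

theorem cu_congr {A : Type*} [Group A] {H H' K K' : Subgroup A} {x y : A} (e : H = H') (e' : K = K')
    (h : IsConjUnder H' x y ↔ IsConjUnder K' x y) : IsConjUnder H x y ↔ IsConjUnder K x y :=
  e ▸ e' ▸ h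

section Lin
variable {F V : Type*} [Field F] [AddCommGroup V] [Module F V] [FiniteDimensional F V]
  {β : LinearMap.BilinForm F V} (hβ : β.Nondegenerate)

theorem det_adj (φ : End F V) : LinearMap.det (H67.adj β hβ φ) = LinearMap.det φ := by
  let b := Module.finBasis F V
  have h : β.compLeft (H67.adj β hβ φ) = β.compRight φ := LinearMap.ext₂ (H67.adj_left β hβ φ)
  have := congrArg (fun B => (LinearMap.BilinForm.toMatrix b B).det) h
  simp only [LinearMap.BilinForm.toMatrix_compLeft, LinearMap.BilinForm.toMatrix_compRight, det_mul,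
    det_transpose, LinearMap.det_toMatrix] at this
  exact mul_right_cancel₀ ((LinearMap.BilinForm.nondegenerate_iff_det_ne_zero b).mp hβ)
    (this.trans (mul_comm _ _))

include hβ in
theorem det_of_alt_sim (ha : β.IsAlt) {m : ℕ} (hm : finrank F V = 2 * m) {T : End F V} {c : Fˣ}
    (h : ∀ x y, β (T x) (T y) = c * β x y) : LinearMap.det T = (c : F) ^ m := by
  obtain ⟨e, he⟩ := H3.exists_isometry_of_isAlt β (H27.sympBilin m F) ha H27.sympBilin_isAlt hβ
    H27.sympBilin_nondegenerate (by rw [hm]; simp [two_mul])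
  obtain ⟨A, hA⟩ := H27.exists_sp_of_isometry (toLin' (spDiag m c⁻¹).1 ∘ₗ e.conj T) fun u v => by
    obtain ⟨u, rfl⟩ := e.surjective u
    obtain ⟨v, rfl⟩ := e.surjective v
    simp only [LinearMap.comp_apply, toLin'_apply, spDiag_form, LinearEquiv.conj_apply_apply,
      e.symm_apply_apply]
    simp only [← H27.sympBilin_apply, he, h, Units.inv_mul_cancel_left]
  have h1 : toLin' A.1 = toLin' (spDiag m c⁻¹).1 ∘ₗ e.conj T := LinearMap.ext hA
  have h2 := congrArg LinearMap.det h1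
  rw [LinearMap.det_comp, LinearMap.det_toLin', LinearMap.det_toLin', SymplecticGroup.det_eq_one A.2,
    det_spDiag, ← (H67.sim_conj e T).det_eq, Units.val_inv_eq_inv_val, inv_pow,
    eq_inv_mul_iff_mul_eq₀ (pow_ne_zero _ c.ne_zero), mul_one] at h2
  exact h2.symm

/-- an isometry `σ(b) b⁻¹` with `b` normal of nonsquare determinant -/
theorem exists_cayley [Finite F] (hs : ∀ x y, β y x = 1 * β x y) {s C : End F V}
    (h1 : H67.adj β hβ s * s = 1) (h2 : IsUnit (s ^ 2 - H67.adj β hβ s ^ 2)) (h3 : IsUnit C)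
    (h4 : s * C = C * s) (h5 : ¬ IsSquare (LinearMap.det C))
    (h6 : ∀ u : End F V, H67.adj β hβ u * u = 1 → s * u = u * s → LinearMap.det u = 1) :
    ∃ a : End F V, H67.adj β hβ a * a = 1 ∧ s * a = a * s ∧
      ¬ IsSquare (LinearMap.det (1 + a)) := by
  haveI : Finite V := Module.finite_of_finite F
  haveI : Finite (End F V) := Finite.of_injective _ DFunLike.coe_injective
  have hm := H67.adj_mul β hβ
  have hσ := H67.adj_adj β hβ hs
  set σ := H67.adj β hβ
  have hd : ∀ x, LinearMap.det (σ x) = LinearMap.det x := det_adj hβ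
  have hu : ∀ x : End F V, IsUnit x ↔ LinearMap.det x ≠ 0 := fun x => by
    rw [LinearMap.isUnit_iff_isUnit_det, isUnit_iff_ne_zero]
  have e1 : s * σ s = 1 := mul_eq_one_comm.1 h1
  have c1 : ∀ {x}, s * x = x * s → σ s * x = x * σ s := fun {x} h => by
    rw [← mul_one (σ s * x), ← e1, ← mul_assoc, mul_assoc (σ s), ← h, ← mul_assoc, h1, one_mul]
  have c2 : ∀ {x}, s * x = x * s → s * σ x = σ x * s := fun {x} h => by
    have := congrArg σ (c1 h)
    rwa [hm, hm, hσ, eq_comm] at this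
  have h7 : IsUnit (s - σ s) := isUnit_of_mul_isUnit_left (y := s + σ s) (by
    convert h2 using 1
    rw [sub_mul, mul_add, mul_add, e1, h1, pow_two, pow_two]; abel)
  have pol : ∀ h, σ h = h → IsUnit h → s * h = h * s → ∃ c, σ c * c = h ∧ s * c = c * s ∧
      σ c * c = c * σ c := fun h e hh hc => by
    obtain ⟨c, k1, k2⟩ := H67.exists_star_mul_self σ hm hσ s h e hh hc (e1.trans h1.symm) h7
    have k3 := k1 s rfl (e1.trans h1.symm) hc
    refine ⟨c, k2, k3, k1 _ (c2 k3).symm (c1 (c2 k3)).symm ?_⟩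
    have := congrArg σ (k1 h hc.symm (c1 hc).symm rfl)
    rwa [hm, hm, e] at this
  obtain ⟨c, k1, k2, k3⟩ := pol (σ C * C) (by rw [hm, hσ])
    (((hu _).2 (hd C ▸ (hu _).1 h3)).mul h3) (by rw [← mul_assoc, c2 h4, mul_assoc, h4, mul_assoc])
  obtain ⟨c, rfl⟩ : IsUnit c := isUnit_of_mul_isUnit_right
    (k1 ▸ ((hu _).2 (hd C ▸ (hu _).1 h3)).mul h3)
  have inv : ∀ c : (End F V)ˣ, σ c⁻¹.1 * σ c.1 = 1 := fun c => by
    rw [← hm, c.mul_inv, H67.adj_one]
  have cinv : ∀ {x} {c : (End F V)ˣ}, x * c.1 = c.1 * x → x * c⁻¹.1 = c⁻¹.1 * x := fun h =>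
    (Commute.units_inv_right h).eq
  have k4 := h6 (C * c⁻¹.1) (by
    rw [hm, mul_assoc, ← mul_assoc (σ C), ← k1, ← mul_assoc, ← mul_assoc, inv, one_mul, c.mul_inv])
    (by rw [← mul_assoc, h4, mul_assoc, cinv k2, mul_assoc])
  have k5 : LinearMap.det C = LinearMap.det c.1 := by
    rw [← one_mul (LinearMap.det c.1), ← k4, ← map_mul, Units.inv_mul_cancel_right]
  obtain ⟨R, _, _, σ', ι, i1, i2, i3, i4, i5, i6⟩ := H67.exists_commRing_of_comm σ hm hσ
    {s, σ s, c.1, σ c.1} (by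
      simp only [Set.mem_insert_iff, Set.mem_singleton_iff]
      rintro _ (rfl | rfl | rfl | rfl) _ (rfl | rfl | rfl | rfl) <;>
        simp only [e1, h1, k2, k3, c1 k2, c2 k2, c1 (c2 k2)]) (by simp [hσ])
  obtain ⟨s', rfl⟩ := i4 s (by simp)
  obtain ⟨c', hc'⟩ := i4 c.1 (by simp)
  obtain ⟨w, w1, w2⟩ := exists_trace_unit σ' i3 (s := s') (b := c') (i1 (by simp [i2, e1]))
    (i5 _ (by simpa [i2] using h2)) (i5 _ (hc' ▸ c.isUnit))
  obtain ⟨b, hb⟩ := ((i5 _ (hc' ▸ c.isUnit)).mul (w1.pow 2)).map ι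
  have k6 : ι s' * b.1 = b.1 * ι s' := by rw [hb, ← map_mul, ← map_mul, mul_comm]
  have k7 : σ b.1 * b.1 = b.1 * σ b.1 := by rw [hb, ← i2, ← map_mul, ← map_mul, mul_comm]
  obtain ⟨d, d1, -, -⟩ := pol (b.1 + σ b.1) (by rw [map_add, hσ, add_comm])
    (by simpa only [map_add, i2, ← hb] using w2.map ι) (by rw [mul_add, add_mul, k6, c2 k6])
  have k8 : LinearMap.det d ≠ 0 := (hu d).1 (isUnit_of_mul_isUnit_right
    (by simpa only [map_add, i2, ← hb, ← d1] using w2.map ι))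
  refine ⟨σ b.1 * b⁻¹.1, ?_, by rw [← mul_assoc, c2 k6, mul_assoc, cinv k6, mul_assoc], ?_⟩
  · rw [hm, hσ, mul_assoc, ← mul_assoc b.1, ← k7, mul_assoc, b.mul_inv, mul_one, inv]
  · rintro ⟨t, ht⟩
    have k9 : (1 + σ b.1 * b⁻¹.1) * b.1 = σ d * d := by
      rw [d1, add_mul, one_mul, Units.inv_mul_cancel_right]
    have k10 := congrArg LinearMap.det k9
    rw [map_mul, map_mul, hd, ht, hb, map_mul, map_mul, hc', ← k5, map_pow, map_pow] at k10
    have k11 : t * LinearMap.det (ι w) ≠ 0 := fun e => k8 (mul_self_eq_zero.1 (by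
      rw [← k10]; linear_combination (t * LinearMap.det (ι w) * LinearMap.det C) * e))
    exact h5 ⟨LinearMap.det d / (t * LinearMap.det (ι w)), by
      rw [div_mul_div_comm, eq_div_iff (mul_ne_zero k11 k11)]; linear_combination k10⟩

end Lin
variable {F : Type*} [Field F] {ι : Type} [Fintype ι] [DecidableEq ι]
  {Q : QuadraticForm F (ι → F)} [Finite F] (hQ : (polarBilin Q).Nondegenerate)
  (h5 : 5 ≤ Fintype.card ι) (hn : Even (Fintype.card ι)) (h2 : (2 : F) ≠ 0)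
local notation "𝐃" => dickson hQ (ok5 h5)
local notation "𝐒" => spinor hQ (ok5 h5)
local notation "𝛑" => MDict.πD (dSim hQ h5)
local notation "𝐣" => MDict.toΓ (dSim hQ h5)
local notation "𝛍" => qMult (q_ne hQ h5)
local notation "𝐂" => cls hQ h5 hn

omit [Finite F] in
theorem adj_rho (s : O Q) : H67.adj _ hQ (rho Q s) = rho Q s⁻¹ :=
  H67.adj_eq_of _ hQ fun x y => (B_rho_left s⁻¹ x y).trans (by rw [inv_inv]; rfl)

omit [Finite F] in
theorem rho_eq (s : O Q) : rho Q s = toLin' (mat s) := LinearMap.ext fun _ => rfl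

omit [Finite F] in
include hQ hn in
theorem det_of_fpf {s : O Q} (h : ∀ x, rho Q s x = x → x = 0) : (mat s).det = 1 := by
  have h1 : LinearMap.det (rho Q s - 1) ≠ 0 := fun e => by
    obtain ⟨x, hx, h0⟩ := (Submodule.ne_bot_iff _).mp (LinearMap.det_eq_zero_iff_ker_ne_bot.mp e)
    exact h0 (h x (sub_eq_zero.mp hx))
  have h3 : rho Q s * H67.adj _ hQ (rho Q s - 1) = (-1 : F) • (rho Q s - 1) := by
    rw [map_sub, adj_rho, H67.adj_one, mul_sub, ← map_mul, mul_inv_cancel, map_one, mul_one]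
    module
  have h4 := congrArg LinearMap.det h3
  rw [map_mul, det_adj, LinearMap.det_smul, finrank_fintype_fun_eq_card, hn.neg_one_pow] at h4
  rw [← mul_right_cancel₀ h1 h4, rho_eq, LinearMap.det_toLin']

variable {s : O Q} {r : ℕ} (hr : Odd r) (hr0 : (r : F) ≠ 0) (hs : s ^ r = 1)

omit [Finite F] in
include hs in
theorem rho_pow_eq_one : rho Q s ^ r = 1 := by rw [← map_pow, hs, map_one]

omit [Finite F] in
include hQ hr0 hs in
theorem nondegOn_fix : NondegOn Q (LinearMap.ker (rho Q s - 1)) := fun x hx h =>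
  eq_zero_of_polar hQ fun y => by
    obtain ⟨u, w, hu, rfl⟩ := H67.exists_fixed_add (rho_pow_eq_one hs) hr0 y
    have h1 : rho Q s x = x := sub_eq_zero.mp hx
    rw [polar_add_right, h u (sub_eq_zero.mpr hu), polar_sub_right, zero_add, sub_eq_zero]
    conv_lhs => rw [← h1]
    simp

omit [Finite F] in
theorem comm_refl {v : ι → F} (h : v ∈ LinearMap.ker (rho Q s - 1)) : Commute s (refl Q v) :=
  mul_inv_eq_iff_eq_mul.mp ((refl_conj s v).trans (congrArg _ (sub_eq_zero.mp h)))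

omit [Finite F] in
include hr hs in
theorem isUnit_sub_inv (h : ∀ x, rho Q s x = x → x = 0) (k : ℕ) :
    IsUnit (rho Q s ^ 2 ^ k - rho Q s⁻¹ ^ 2 ^ k) := by
  have key : ∀ k x, rho Q (s ^ 2 ^ k) x = x → x = 0 := fun k => by
    induction k with
    | zero => simpa using h
    | succ k ih =>
      refine fun x hx => ih x (H67.fixed_of_sq_of_odd (T := rho Q (s ^ 2 ^ k)) (n := r) ?_ hr ?_)
      · rw [← map_pow, ← pow_mul, mul_comm, pow_mul, hs, one_pow, map_one]
      · rwa [← rho_mul, ← pow_add, ← two_mul, ← pow_succ']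
  rw [LinearMap.isUnit_iff_ker_eq_bot, LinearMap.ker_eq_bot']
  refine fun x hx => key (k + 1) x ?_
  rw [LinearMap.sub_apply, sub_eq_zero, ← map_pow, ← map_pow] at hx
  rw [pow_succ, mul_two, pow_add, rho_mul, hx, ← rho_mul, inv_pow, mul_inv_cancel, map_one,
    End.one_apply]

include hr hs h2 in
theorem cls_of_comm (h : ∀ x, rho Q s x = x → x = 0) {c : Sim Q} (hc : Commute (oSim Q s) c) :
    𝐂 c = 1 := by
  have hu := isUnit_sub_inv hr hs h 0
  simp only [pow_zero, pow_one] at hu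
  have e : ∀ {t : O Q}, Commute (oSim Q t) c → ∀ x, rho Q t (c.1.1 *ᵥ x) = c.1.1 *ᵥ rho Q t x :=
    fun {t} ht x => by
      rw [rho_apply, rho_apply, mulVec_mulVec, mulVec_mulVec]
      exact congrArg (fun g : Sim Q => g.1.1 *ᵥ x) ht.eq
  obtain ⟨k, hk⟩ := id hn
  refine cls_eq_of_det hQ h5 hn h2 ?_
  have ha : (LinearMap.BilinForm.compLeft (polarBilin Q) (rho Q s - rho Q s⁻¹)).IsAlt := fun x => by
    simp [B_rho_left s, polar_comm Q x]
  rw [← LinearMap.det_toLin', det_of_alt_sim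
    (ha.isRefl.nondegenerate_iff_separatingLeft.mpr fun x hx =>
      ((End.isUnit_iff _).1 hu).1 ((hQ.1 _ hx).trans (map_zero _).symm)) ha (m := k) (c := 𝛍 c)
    (by rw [finrank_fintype_fun_eq_card]; omega) fun x y => ?_, show Fintype.card ι / 2 = k by omega]
  · simp
  · simp only [LinearMap.BilinForm.compLeft_apply, toLin'_apply, LinearMap.sub_apply, e hc,
      e (t := s⁻¹) (by rw [map_inv]; exact hc.inv_left), ← mulVec_sub, polarBilin_apply_apply,
      polar_sim hQ h5]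

include hQ h5 hr hr0 hs in
theorem exists_o_comm (δ : Sim Q) : ∃ (o : O Q) (c : Sim Q), δ = oSim Q o * c ∧
    Commute (oSim Q s) c := by
  obtain ⟨k, h1, h3⟩ := H67.exists_isometry_conj_quad hQ (A := rho Q s)
    (B := rho Q (oAut Q (𝐣 δ) s)) (g := toLin' δ.1.1) (by simp) (by simp)
    (δ.1.isUnit.map toLinAlgEquiv') (LinearMap.ext fun v => (rho_oAut (𝐣 δ) s v).symm)
    (rho_pow_eq_one hs) hr0 hr
  have h4 : ofEquiv k h1 * s = oAut Q (𝐣 δ) s * ofEquiv k h1 := O_ext fun v => by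
    rw [rho_mul, rho_mul, rho_ofEquiv, rho_ofEquiv]; exact LinearMap.congr_fun h3 v
  have h6 := congrArg (oSim Q) h4
  rw [map_mul, map_mul, show oSim Q (oAut Q (𝐣 δ) s) = _ from (conj_oSim δ s).symm] at h6
  refine ⟨ofEquiv k h1, (oSim Q (ofEquiv k h1))⁻¹ * δ, by simp, ?_⟩
  rw [Commute, SemiconjBy, ← mul_left_cancel_iff (a := oSim Q (ofEquiv k h1)), ← mul_assoc,
    ← mul_assoc, h6]
  group

include hr hr0 hs h2 in
theorem exists_cls_comm (δ : Sim Q) : ∃ c : Sim Q, 𝐂 c = 1 ∧ 𝛍 c = 𝛍 δ ∧ Commute (oSim Q s) c := by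
  obtain ⟨o, c, rfl, hc⟩ := exists_o_comm hQ h5 hr hr0 hs δ
  rw [map_mul, qMult_oSim, one_mul]
  by_cases h1 : 𝐂 c = 1
  · exact ⟨c, h1, rfl, hc⟩
  obtain ⟨v, h3, h4⟩ := (nondegOn_fix hQ hr0 hs).exists_nonsingular fun e =>
    h1 (cls_of_comm hQ h5 hn h2 hr hs (fun x hx =>
      (Submodule.eq_bot_iff _).mp e x (sub_eq_zero.mpr hx)) hc)
  refine ⟨oSim Q (refl Q v) * c, ?_, by rw [map_mul, qMult_oSim, one_mul],
    ((comm_refl h3).map _).mul_right hc⟩
  rw [map_mul, cls_oSim, dickson_refl hQ _ h4, (Int.units_eq_one_or _).resolve_left h1]; simp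

include hr hr0 hs h2 hn in
theorem exists_spinor_comm : ∃ o : O Q, 𝐃 o = 1 ∧ 𝐒 o = -1 ∧ Commute s o := by
  rcases Nat.lt_trichotomy (finrank F (LinearMap.ker (rho Q s - 1))) 1 with h | h | h
  · have h0 : ∀ x, rho Q s x = x → x = 0 := fun x hx => (Submodule.eq_bot_iff _).mp
      (Submodule.finrank_eq_zero.mp (Nat.lt_one_iff.mp h)) x (sub_eq_zero.mpr hx)
    have iso : ∀ u : End F (ι → F), H67.adj _ hQ u * u = 1 → rho Q s * u = u * rho Q s →
        ∃ o : O Q, rho Q o = u ∧ Commute s o ∧ 𝐃 o = 1 := fun u h1 h3 => by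
      obtain ⟨o, ho⟩ := H67.exists_mem_isometryGroup (A := LinearMap.toMatrix' u) hQ fun x =>
        mul_left_cancel₀ h2 (by
          rw [toLin'_toMatrix', ← B_self, ← B_self]
          exact (H67.adj_mul_self_eq_one_iff _ hQ u).1 h1 x x)
      have h4 : rho Q o = u := by rw [rho_eq, mat, ho, toLin'_toMatrix']
      have h6 : Commute s o := O_ext fun v => by
        rw [rho_mul, rho_mul, h4]; exact LinearMap.congr_fun h3 v
      exact ⟨o, h4, h6, (cls_oSim hQ h5 hn o).symm.trans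
        (cls_of_comm hQ h5 hn h2 hr hs h0 (h6.map _))⟩
    obtain ⟨c, hc⟩ := exists_nonsquare_unit h2
    let D := dec (toLin' (mat s))
    have h1 := D.finrank_eq
    rw [finrank_fintype_fun_eq_card] at h1
    obtain ⟨k⟩ : Nonempty (Fin D.t) := by
      by_contra H
      rw [not_nonempty_iff] at H
      simp at h1; omega
    obtain ⟨C, h3, h4⟩ := D.exists_comm_det k c.ne_zero
    have h6 : D.e k = 1 := by
      have h7 := (D.sim.aeval (Polynomial.X ^ r - 1)).eq_zero_iff.1 (by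
        simp [← rho_eq, rho_pow_eq_one hs])
      have h8 := H67.aeval_modT_apply (fun k => D.p k ^ D.e k) (Polynomial.X ^ r - 1) 1 k
      rw [h7, Pi.one_apply, mul_one, eq_comm, LinearMap.zero_apply, Pi.zero_apply,
        AdjoinRoot.mk_eq_zero] at h8
      have := (((Polynomial.X_pow_sub_one_separable_iff.2 hr0).squarefree.squarefree_of_dvd
        h8).eq_zero_or_one_of_pow_of_not_isUnit (D.irr k).not_isUnit)
      have := D.pos k
      omega
    obtain ⟨a, h7, h8, h9⟩ := exists_cayley hQ (fun x y => by simp [polar_comm Q x]) (s := rho Q s)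
      (C := toLin' C.1) (by rw [adj_rho, ← map_mul, inv_mul_cancel, map_one])
      (by simpa [adj_rho] using isUnit_sub_inv hr hs h0 1) (C.isUnit.map toLinAlgEquiv')
      (by rw [rho_eq, End.mul_eq_comp, End.mul_eq_comp, ← toLin'_mul, ← toLin'_mul, h3])
      (by rwa [LinearMap.det_toLin', h4, h6, pow_one]) fun u h7 h8 => by
        obtain ⟨o, rfl, -, h9⟩ := iso u h7 h8
        rw [rho_eq, LinearMap.det_toLin', (dickson_eq_of_det hQ h5 h2 o).1 h9]
    obtain ⟨o, rfl, h10, h11⟩ := iso a h7 h8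
    rw [rho_eq, End.one_eq_id, ← toLin'_one, ← map_add, LinearMap.det_toLin'] at h9
    have h12 : (1 + mat o).det ≠ 0 := fun e => h9 (e ▸ IsSquare.zero)
    refine ⟨o, h11, ?_, h10⟩
    rw [H11.spinor_eq_of_one_add hQ _ h2 o h12, sqSign_mul (pow_ne_zero _ h2) h12,
      sqSign_eq_one.2 (hn.isSquare_pow _), sqSign_eq_neg_one.2 h9, one_mul]
  · obtain ⟨v, h3, h4⟩ := (nondegOn_fix hQ hr0 hs).exists_nonsingular fun e => by
      rw [e, finrank_bot] at h; omega
    have h6 : v ≠ 0 := fun e => h4 (by simp [e])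
    have h7 := det_of_fpf hQ hn (s := refl Q v * s) fun x hx => by
      have h8 : rho Q s x = rho Q (refl Q v) x := by
        conv_rhs => rw [← hx, ← rho_mul, ← mul_assoc, refl_mul_self, one_mul]
      have h9 : rho Q s x = x := sub_eq_zero.mp (H67.sub_eq_zero_of_fixed (rho_pow_eq_one hs) hr0 (by
        rw [h8, rho_refl, sub_sub_cancel_left, map_neg, map_smul,
          show rho Q s v = v from sub_eq_zero.mp h3]))
      obtain ⟨a, ha⟩ := (finrank_eq_one_iff_of_nonzero' (⟨v, h3⟩ : LinearMap.ker (rho Q s - 1))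
        (by simpa)).mp h ⟨x, sub_eq_zero.mpr h9⟩
      obtain rfl : a • v = x := congrArg Subtype.val ha
      rw [h9, map_smul, rho_refl_self h4, smul_neg, eq_neg_iff_add_eq_zero, ← two_smul F] at h8
      exact (smul_eq_zero.mp h8).resolve_left h2
    have h8 := congrArg (𝐃) hs
    rw [← dickson_eq_of_det hQ h5 h2, map_mul, dickson_refl hQ _ h4] at h7
    rw [map_pow, map_one, show 𝐃 s = -1 by simpa [neg_eq_iff_eq_neg] using h7, hr.neg_one_pow] at h8
    exact absurd h8 (by decide)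
  · obtain ⟨u, h3, v, h4, -, -, h6, h7⟩ := exists_refl_pair hQ h5 h2 (nondegOn_fix hQ hr0 hs) h
    exact ⟨_, h6, h7, (comm_refl h3).mul_right (comm_refl h4)⟩

omit hs hr0 in
include hr in
theorem exists_odd_rep {g : Sim Q} (hg : 𝛑 g ^ r = 1) :
    ∃ s : O Q, s ^ r = 1 ∧ 𝛑 g = 𝛑 (oSim Q s) := by
  obtain ⟨c, hc⟩ := π_eq_one hQ h5 ((map_pow _ _ _).trans hg)
  obtain ⟨k, rfl⟩ := hr
  obtain ⟨μ, t, rfl⟩ := sim_decomp' (q_ne hQ h5) (g := g) ⟨c / (𝛍 g : F) ^ k, by
    have := congrArg (fun x => (𝛍 x : F)) hc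
    simp only [map_pow, qMult_scSim, Units.val_pow_eq_pow_val] at this
    field_simp; linear_combination this⟩
  rw [Commute.mul_pow (a := scSim Q μ) (scSim_comm μ _), ← map_pow, ← map_pow,
    ← mul_one (scSim Q c), ← map_one (oSim Q)] at hc
  rw [map_mul, π_scSim hQ h5, one_mul]
  rcases scSim_oSim_eq (q_ne hQ h5) hc with h | h
  · exact ⟨t, h, rfl⟩
  · have h1 : Commute (negO Q) t := O_ext_mat (by simp [mat_mul, mat_negO])
    have h3 : negO Q * negO Q = 1 := O_ext_mat (by simp [mat_mul, mat_negO, mat_one])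
    refine ⟨negO Q * t, ?_, by rw [map_mul, map_mul, ← scSim_neg_one, π_scSim hQ h5, one_mul]⟩
    rw [h1.mul_pow, h, pow_succ, pow_mul, pow_two, h3, one_pow, one_mul, mul_one, h3]

omit hs in
include hr hr0 h2 in
theorem odd_classes {g : Sim Q} (hg : 𝛑 g ^ r = 1)
    (hδ : ∃ δ : GamO Q, δ.1.right = 1 ∧ ¬ IsSquare (mult δ : F)) (y : MulAut (POmega F Q)) :
    ((IsConjUnder (Inn (POmega F Q)) (𝛑 g) y ↔ IsConjUnder (dP hQ h5 hn).πD.range (𝛑 g) y) ∧
      (IsConjUnder (psoAut F Q) (𝛑 g) y ↔ IsConjUnder (dP hQ h5 hn).πD.range (𝛑 g) y)) ∧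
      (IsConjUnder (Cfsg.poAut F Q) (𝛑 g) y ↔ IsConjUnder (pgoAut F Q) (𝛑 g) y) := by
  obtain ⟨s, hs, e⟩ := exists_odd_rep hQ h5 hr hg
  have cm : ∀ c, Commute (oSim Q s) c → c ∈ cmm (𝛑) (𝛑 g) := fun c hc =>
    (mem_cmm _).mpr (e ▸ (hc.map (𝛑)).eq.symm)
  obtain ⟨δ, h3, h4⟩ := hδ
  obtain ⟨δ, -, h4⟩ := exists_delta_cls hQ h5 hn δ h3 h4
  obtain ⟨c, h6, h7, h8⟩ := exists_cls_comm hQ h5 hn h2 hr hr0 hs δ
  obtain ⟨o, h9, h10, h11⟩ := exists_spinor_comm hQ h5 hn h2 hr hr0 hs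
  have := zOm_normal (Q := Q)
  have h12 := ker_le_of hQ h5 hn (zSO_le_of hQ h5 (L := zMul (Omega F Q) ⊔ cmm (𝛑) (𝛑 g))
    le_sup_left h9 h10 (Subgroup.mem_sup_right (cm _ (h11.map _)))) h6 (by rwa [h7])
    (Subgroup.mem_sup_right (cm _ h8))
  have h13 := zMul_mono (omega_le_ker hQ h5)
  have h14 : ∀ g' ∈ (𝐂).ker, ∃ n ∈ zMul (Omega F Q), ∃ c ∈ cmm (𝛑) (𝛑 g), g' = n * c :=
    fun g' hg' => (Subgroup.mem_sup_of_normal_left.mp (h12 hg')).imp fun _ ⟨k1, c, k2, k3⟩ =>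
      ⟨k1, c, k2, k3.symm⟩
  have h16 := conjUnder_map_iff (𝛑) (zSO_le_ker hQ h5 hn) (fun g' hg' =>
    (h14 g' hg').imp fun n h => ⟨h13 h.1, h.2⟩) y
  have h17 := conjUnder_map_iff (𝛑) (N := zMul ⊤) (x := 𝛑 g) le_top (fun d _ => by
    obtain ⟨o, c, rfl, h⟩ := exists_o_comm hQ h5 hr hr0 hs d
    exact ⟨_, oSim_mem_zMul trivial, c, cm c h, rfl⟩) y
  exact ⟨⟨cu_congr (inn_eq hQ h5) (dP_range hQ h5 hn)
    (conjUnder_map_iff (𝛑) (h13.trans (zSO_le_ker hQ h5 hn)) h14 y),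
    cu_congr (psoAut_eq hQ h5 h2) (dP_range hQ h5 hn) h16⟩,
    cu_congr (poAut_eq hQ h5) ((pgoAut_eq hQ h5).trans (MonoidHom.range_eq_map _)) h17⟩

end Cfsg.Agent.H68
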